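import Groth.Agent.Sga1.UlaSL
import Groth.Agent.Etdl.H428.SmLim
import Groth.Agent.CalgC.IndEtale
import Groth.Agent.Hensel.HenselPerm
import Groth.Agent.Proet.IndEtale

/-!
# Strict localizations of affine schemes are ind-étale

* `isIndEtale_of_isStrictLoc`: the strict localization of `Spec A` is ind-étale over `A`;
* `isSmLim_of_isStrictLoc`: its spectrum is a directed limit of smooth `Spec A`-schemes;
* `isSmLim_of_smooth`: a smooth morphism is a (constant) directed limit of smooth schemes.
-/

set_option autoImplicit false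
universe u

open CategoryTheory CategoryTheory.Limits AlgebraicGeometry IsLocalRing

namespace Groth.Agent.Sga7.H938.StrictLocInd

open Groth.Agent Groth.Agent.Etrest.StrictLoc Groth.Agent.Proet.FacInd

theorem isIndEtale_of_isLocalization {A : Type u} [CommRing A] (M : Submonoid A) (C : Type u)
    [CommRing C] [Algebra A C] [IsLocalization M C] : EtPBC.IsIndEtale A C := by
  rw [Proet.IndEtale.isIndEtale_iff_factor]
  intro Z _ _ _ g
  obtain ⟨E, a, b, c, ψ, χ, h⟩ := CalgC.IndEtale.isIndEtale_of_isLocalization M C Z g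
  exact ⟨E, a, b, ψ, χ, c, h⟩

theorem isIndEtale_of_isStrictHenselization (A R : Type u) [CommRing A] [IsLocalRing A]
    [CommRing R] [IsLocalRing R] [Algebra A R] [IsLocalHom (algebraMap A R)]
    [Hensel.IsStrictHenselization A R] : EtPBC.IsIndEtale A R := by
  rw [Proet.IndEtale.isIndEtale_iff_factor]
  intro Z _ _ _ g
  obtain ⟨E, a, b, c, ψ, χ, h⟩ := Hensel.HenselPerm.lazardEtale_of_isStrictHenselization A R Z g
  exact ⟨E, a, b, ψ, χ, c, h⟩

/-- The strict localization of an affine scheme is ind-étale. -/
theorem isIndEtale_of_isStrictLoc (A C : Type u) [CommRing A] [CommRing C] [IsLocalRing C]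
    [Algebra A C] (h : Etrest.StrictLoc.IsStrictLoc (Spec.map (CommRingCat.ofHom (algebraMap A C)))) :
    EtPBC.IsIndEtale A C := by
  obtain ⟨x, hx⟩ : ∃ x, (Spec.map (CommRingCat.ofHom (algebraMap A C))) (closedPoint C) = x := ⟨_, rfl⟩
  obtain ⟨alg, loc, sh, h2⟩ := Groth.Agent.Sga1.UlaSL.exists_specOf h x hx
  let O := (Spec (CommRingCat.of A)).presheaf.stalk x
  let _ : Algebra A O := StructureSheaf.stalkAlgebra A x
  have hxp : x.asIdeal.IsPrime := PrimeSpectrum.isPrime (R := A) x
  have hO : IsLocalization.AtPrime O x.asIdeal := StructureSheaf.IsLocalization.to_stalk A x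
  have h3 : (algebraMap O C).comp (algebraMap A O) = algebraMap A C := by
    have h4 : Spec.map (CommRingCat.ofHom ((algebraMap O C).comp (algebraMap A O))) =
        Spec.map (CommRingCat.ofHom (algebraMap A C)) := by
      rw [← h2, Hens2.specOf, CommRingCat.ofHom_comp, Spec.map_comp, Spec.fromSpecStalk_eq]
      rfl
    exact congrArg CommRingCat.Hom.hom (Spec.map_injective h4)
  have hst : IsScalarTower A O C := IsScalarTower.of_algebraMap_eq fun a => (RingHom.congr_fun h3 a).symm
  exact Proet.IndEtale.isIndEtale_trans A O C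
    (isIndEtale_of_isLocalization x.asIdeal.primeCompl O)
    (isIndEtale_of_isStrictHenselization O C)

theorem isInd_sm_of_isIndEtale {A C : Type u} [CommRing A] [CommRing C] [Algebra A C]
    (h : EtPBC.IsIndEtale A C) : IsInd A (Groth.Agent.Etdl.H428.SmLim.Sm A) C := by
  obtain ⟨J, _, _, D, c, hc, hD, he⟩ := h
  refine ⟨J, inferInstance, inferInstance, D, c, hc, fun j => ?_, he⟩
  let _ := (D.obj j).hom.hom.toAlgebra
  have h1 : Algebra.Etale A (D.obj j).right := hD j
  exact (inferInstance : Algebra.Smooth A (D.obj j).right)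

/-- The spectrum of an ind-étale algebra is a directed limit of smooth schemes. -/
theorem isSmLim_of_isIndEtale {A C : Type u} [CommRing A] [CommRing C] [Algebra A C]
    (h : EtPBC.IsIndEtale A C) :
    Etdl.H428.SmLim.IsSmLim (Spec.map (CommRingCat.ofHom (algebraMap A C))) := by
  have := Groth.Agent.Etdl.H428.SmLim.isSmLim_of_isInd (isInd_sm_of_isIndEtale h)
    (𝟙 (Spec (CommRingCat.of A)))
  rwa [Category.comp_id] at this

/-- The strict localization of an affine scheme is a directed limit of smooth schemes. -/
theorem isSmLim_of_isStrictLoc (A C : Type u) [CommRing A] [CommRing C] [IsLocalRing C]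
    [Algebra A C] (h : Etrest.StrictLoc.IsStrictLoc (Spec.map (CommRingCat.ofHom (algebraMap A C)))) :
    Etdl.H428.SmLim.IsSmLim (Spec.map (CommRingCat.ofHom (algebraMap A C))) :=
  isSmLim_of_isIndEtale (isIndEtale_of_isStrictLoc A C h)

/-- A smooth morphism is a constant directed limit of smooth schemes. -/
theorem isSmLim_of_smooth {X Y : Scheme.{u}} (f : X ⟶ Y) [Smooth f] :
    Etdl.H428.SmLim.IsSmLim f := by
  refine ⟨PUnit.{u + 1}, inferInstance, inferInstance, inferInstance,
    (Functor.const _).obj (Over.mk f), { app := fun _ => 𝟙 X }, ?_, ?_, ?_, ?_⟩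
  · exact
      { lift := fun s => s.π.app (Opposite.op PUnit.unit)
        fac := fun s j => Category.comp_id (obj := Scheme.{u}) (Y := X) (s.π.app j)
        uniq := fun s m hm => (Category.comp_id (obj := Scheme.{u}) (Y := X) m).symm.trans
          (hm (Opposite.op PUnit.unit)) }
  · intro i
    exact ‹Smooth f›
  · intro a b u
    change IsAffineHom (𝟙 X)
    infer_instance
  · intro i
    exact Category.id_comp f

end Groth.Agent.Sga7.H938.StrictLocInd
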